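import Mathlib
import Groth.Prelude

set_option autoImplicit false
set_option linter.style.haveILetI false

universe u

open MvPolynomial

namespace Groth.Agent.H8.Res34

section General

theorem formallySmooth_away_congr {R T : Type u} [CommRing R] [CommRing T] [Algebra R T]
    {x y : T} (h : x = y) [Algebra.FormallySmooth R (Localization.Away x)] :
    Algebra.FormallySmooth R (Localization.Away y) := by
  subst h
  infer_instance

/-- if `A_a` is formally smooth over `R` and `T₁` is formally smooth over `A`, then `(T₁)_a` is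
formally smooth over `R`. -/
theorem formallySmooth_away_comp {R A T₁ : Type u} [CommRing R] [CommRing A] [CommRing T₁]
    [Algebra R A] [Algebra A T₁] [Algebra R T₁] [IsScalarTower R A T₁]
    [Algebra.FormallySmooth A T₁] (a : A) [Algebra.FormallySmooth R (Localization.Away a)] :
    Algebra.FormallySmooth R (Localization.Away (algebraMap A T₁ a)) := by
  haveI : Algebra.FormallySmooth A (Localization.Away (algebraMap A T₁ a)) :=
    Algebra.FormallySmooth.comp A T₁ (Localization.Away (algebraMap A T₁ a))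
  have hu : ∀ y : Submonoid.powers a,
      IsUnit (algebraMap A (Localization.Away (algebraMap A T₁ a)) y) := by
    rintro ⟨_, n, rfl⟩
    rw [map_pow, IsScalarTower.algebraMap_apply A T₁ (Localization.Away (algebraMap A T₁ a))]
    exact (IsLocalization.Away.algebraMap_isUnit _).pow n
  letI : Algebra (Localization.Away a) (Localization.Away (algebraMap A T₁ a)) :=
    (IsLocalization.lift hu).toAlgebra
  haveI : IsScalarTower A (Localization.Away a) (Localization.Away (algebraMap A T₁ a)) :=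
    IsScalarTower.of_algebraMap_eq (fun x => (IsLocalization.lift_eq hu x).symm)
  haveI : Algebra.FormallySmooth (Localization.Away a)
      (Localization.Away (algebraMap A T₁ a)) :=
    Algebra.FormallySmooth.localization_base (Submonoid.powers a)
  haveI : IsScalarTower R (Localization.Away a) (Localization.Away (algebraMap A T₁ a)) :=
    IsScalarTower.of_algebraMap_eq (fun r => by
      rw [IsScalarTower.algebraMap_apply R A (Localization.Away a),
        ← IsScalarTower.algebraMap_apply A (Localization.Away a)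
          (Localization.Away (algebraMap A T₁ a)),
        ← IsScalarTower.algebraMap_apply R A (Localization.Away (algebraMap A T₁ a))])
  exact Algebra.FormallySmooth.comp R (Localization.Away a)
    (Localization.Away (algebraMap A T₁ a))

/-- membership in the singular ideal from formal smoothness of a double localisation. -/
theorem mul_mem_singularIdeal {R B : Type u} [CommRing R] [CommRing B] [Algebra R B]
    [Algebra.FinitePresentation R B] (y₀ b : B)
    (hsm : Algebra.FormallySmooth R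
      (Localization.Away (algebraMap B (Localization.Away y₀) b))) :
    b * y₀ ∈ Smoothing.singularIdeal R B := by
  haveI := hsm
  have e : Localization.Away (algebraMap B (Localization.Away y₀) b) ≃ₐ[R]
      Localization.Away (b * y₀) :=
    (IsLocalization.algEquiv (Submonoid.powers (b * y₀))
      (Localization.Away (algebraMap B (Localization.Away y₀) b))
      (Localization.Away (b * y₀))).restrictScalars R
  haveI : Algebra.FormallySmooth R (Localization.Away (b * y₀)) :=
    Algebra.FormallySmooth.of_equiv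
      (A := Localization.Away (algebraMap B (Localization.Away y₀) b)) e
  have hD : (PrimeSpectrum.basicOpen (b * y₀) : Set (PrimeSpectrum B)) ⊆
      Algebra.smoothLocus R B := Algebra.basicOpen_subset_smoothLocus_iff.mpr inferInstance
  show b * y₀ ∈ PrimeSpectrum.vanishingIdeal _
  rw [PrimeSpectrum.mem_vanishingIdeal]
  intro x hx
  by_contra hcon
  exact hx (hD hcon)

end General

section Vars

/-- variables: `y i`, `t i k`, `z`. -/
abbrev Var (I K : Type) : Type := I ⊕ (I × K) ⊕ Unit

/-- the variable `y i`. -/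
abbrev vy {I K : Type} (i : I) : Var I K := Sum.inl i
/-- the variable `t i k`. -/
abbrev vt {I K : Type} (i : I) (k : K) : Var I K := Sum.inr (Sum.inl (i, k))
/-- the variable `z`. -/
abbrev vz {I K : Type} : Var I K := Sum.inr (Sum.inr ())

/-- values on the variables. -/
def mkVals {I K : Type} {Q : Type*} (fy : I → Q) (ft : I → K → Q) (fz : Q) : Var I K → Q :=
  Sum.elim fy (Sum.elim (fun ik => ft ik.1 ik.2) (fun _ => fz))

@[simp] lemma mkVals_vy {I K : Type} {Q : Type*} (fy : I → Q) (ft : I → K → Q) (fz : Q) (i : I) :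
    mkVals fy ft fz (vy i) = fy i := rfl
@[simp] lemma mkVals_vt {I K : Type} {Q : Type*} (fy : I → Q) (ft : I → K → Q) (fz : Q) (i : I)
    (k : K) : mkVals fy ft fz (vt i k) = ft i k := rfl
@[simp] lemma mkVals_vz {I K : Type} {Q : Type*} (fy : I → Q) (ft : I → K → Q) (fz : Q) :
    mkVals fy ft fz (vz : Var I K) = fz := rfl

end Vars

section Construction

variable {P : Type u} [CommRing P] (I : Type) {K : Type} [Fintype I] (f : K → P)

/-- the relation `f_k - ∑ y_i t_{ik}`. -/
noncomputable def rel1 (k : K) : MvPolynomial (Var I K) P :=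
  C (f k) - ∑ i : I, X (vy i) * X (vt i k)

/-- the relation `z y_i`. -/
noncomputable def rel2 (P : Type u) [CommRing P] (I K : Type) (i : I) : MvPolynomial (Var I K) P :=
  X vz * X (vy i)

/-- the ideal of relations. -/
noncomputable def JJ : Ideal (MvPolynomial (Var I K) P) :=
  Ideal.span (Set.range (rel1 I f) ∪ Set.range (rel2 P I K))

lemma rel1_mem (k : K) : rel1 I f k ∈ JJ I f := Ideal.subset_span (Or.inl ⟨k, rfl⟩)
lemma rel2_mem (i : I) : rel2 P I K i ∈ JJ I f := Ideal.subset_span (Or.inr ⟨i, rfl⟩)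

variable {I}
variable {B : Type u} [CommRing B] [Algebra P B] (π : MvPolynomial (Var I K) P →ₐ[P] B)
  (hπ : Function.Surjective π) (hker : ∀ s, π s = 0 ↔ s ∈ JJ I f)

include hπ hker in
/-- the chart `y_ℓ ≠ 0` is formally smooth over `P`. -/
theorem formallySmooth_away_y (ℓ : I) :
    Algebra.FormallySmooth P (Localization.Away (π (X (vy ℓ)))) := by
  classical
  refine Algebra.FormallySmooth.of_comp_surjective fun Q _ _ N hN u => ?_
  have hNnil : IsNilpotent N := ⟨2, hN⟩
  obtain ⟨Φ, hΦ⟩ : ∃ Φ : MvPolynomial (Var I K) P →+* Q ⧸ N,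
      ∀ s, Φ s = u (algebraMap B (Localization.Away (π (X (vy ℓ)))) (π s)) :=
    ⟨(u : Localization.Away (π (X (vy ℓ))) →+* Q ⧸ N).comp
      ((algebraMap B (Localization.Away (π (X (vy ℓ))))).comp
        (π : MvPolynomial (Var I K) P →+* B)), fun s => rfl⟩
  have hΦC : ∀ p, Φ (C p) = algebraMap P (Q ⧸ N) p := by
    intro p
    rw [hΦ, ← MvPolynomial.algebraMap_eq, π.commutes, ← IsScalarTower.algebraMap_apply,
      u.commutes]
  have hΦJ : ∀ s ∈ JJ I f, Φ s = 0 := by
    intro s hs
    rw [hΦ, (hker s).mpr hs, map_zero, map_zero]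
  have hex : ∀ w, ∃ q : Q, Ideal.Quotient.mk N q = Φ (X w) :=
    fun w => Ideal.Quotient.mk_surjective _
  choose q hq using hex
  have huy : IsUnit (Φ (X (vy ℓ))) := by
    rw [hΦ]
    exact (IsLocalization.Away.algebraMap_isUnit (π (X (vy ℓ)))).map u
  have huq : IsUnit (q (vy ℓ)) := by
    rw [← IsNilpotent.isUnit_quotient_mk_iff hNnil, hq]
    exact huy
  obtain ⟨uℓ, huℓ⟩ := huq
  obtain ⟨q', hq'y, hq'tℓ, hq't, hq'z⟩ : ∃ q' : Var I K → Q,
      (∀ i, q' (vy i) = q (vy i)) ∧
      (∀ k, q' (vt ℓ k) = ((uℓ⁻¹ : Qˣ) : Q) * (algebraMap P Q (f k) -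
        ∑ i' ∈ Finset.univ.erase ℓ, q (vy i') * q (vt i' k))) ∧
      (∀ i k, i ≠ ℓ → q' (vt i k) = q (vt i k)) ∧ q' vz = 0 :=
    ⟨mkVals (fun i => q (vy i))
      (fun i k => if i = ℓ then ((uℓ⁻¹ : Qˣ) : Q) * (algebraMap P Q (f k) -
        ∑ i' ∈ Finset.univ.erase ℓ, q (vy i') * q (vt i' k)) else q (vt i k)) 0,
      fun _ => rfl, fun k => by rw [mkVals_vt, if_pos rfl],
      fun i k h => by rw [mkVals_vt, if_neg h], rfl⟩
  have hg₀J : ∀ s ∈ JJ I f, (aeval q' : MvPolynomial (Var I K) P →ₐ[P] Q) s = 0 := by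
    intro s hs
    refine Submodule.span_induction ?_ ?_ ?_ ?_ hs
    · rintro _ (⟨k, rfl⟩ | ⟨i, rfl⟩)
      · rw [rel1, map_sub, map_sum, aeval_C]
        simp only [map_mul, aeval_X]
        have h2 : ∑ i ∈ Finset.univ.erase ℓ, q' (vy i) * q' (vt i k) =
            ∑ i' ∈ Finset.univ.erase ℓ, q (vy i') * q (vt i' k) :=
          Finset.sum_congr rfl fun i hi => by
            rw [hq'y, hq't i k (Finset.ne_of_mem_erase hi)]
        rw [← Finset.add_sum_erase Finset.univ _ (Finset.mem_univ ℓ), h2, hq'y, hq'tℓ, ← huℓ,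
          ← mul_assoc, Units.mul_inv, one_mul]
        ring
      · rw [rel2, map_mul, aeval_X, aeval_X, hq'z, zero_mul]
    · exact map_zero _
    · intro a b _ _ ha hb
      rw [map_add, ha, hb, add_zero]
    · intro a b _ hb
      rw [smul_eq_mul, map_mul, hb, mul_zero]
  obtain ⟨g₁, hg₁⟩ : ∃ g₁ : B →ₐ[P] Q, ∀ s, g₁ (π s) = aeval q' s :=
    ⟨AlgHom.liftOfSurjective π hπ (aeval q') (fun s hs => by
      rw [RingHom.mem_ker] at hs ⊢
      exact hg₀J s ((hker s).mp hs)),
      fun s => AlgHom.liftOfSurjective_apply π hπ _ _ s⟩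
  have hunits : ∀ y : Submonoid.powers (π (X (vy ℓ))), IsUnit (g₁ y) := by
    rintro ⟨_, n, rfl⟩
    show IsUnit (g₁ (π (X (vy ℓ)) ^ n))
    rw [map_pow, hg₁, aeval_X, hq'y, ← huℓ]
    exact uℓ.isUnit.pow n
  obtain ⟨g₂, hg₂⟩ : ∃ g₂ : Localization.Away (π (X (vy ℓ))) →ₐ[P] Q,
      ∀ b : B, g₂ (algebraMap B _ b) = g₁ b :=
    ⟨IsLocalization.liftAlgHom (M := Submonoid.powers (π (X (vy ℓ)))) (f := g₁) hunits,
      fun b => IsLocalization.lift_eq _ b⟩
  refine ⟨g₂, ?_⟩
  apply AlgHom.coe_ringHom_injective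
  apply IsLocalization.ringHom_ext (Submonoid.powers (π (X (vy ℓ))))
  apply (RingHom.cancel_right (f := (π : MvPolynomial (Var I K) P →+* B)) hπ).mp
  apply MvPolynomial.ringHom_ext
  · intro p
    show Ideal.Quotient.mk N (g₂ (algebraMap B _ (π (C p)))) =
      u (algebraMap B _ (π (C p)))
    rw [← hΦ, hΦC, hg₂, hg₁, aeval_C]
    rfl
  · intro w
    show Ideal.Quotient.mk N (g₂ (algebraMap B _ (π (X w)))) =
      u (algebraMap B _ (π (X w)))
    rw [← hΦ, hg₂, hg₁, aeval_X]
    rcases w with i | ⟨i, k⟩ | ⟨⟩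
    · show Ideal.Quotient.mk N (q' (vy i)) = Φ (X (vy i))
      rw [hq'y, hq]
    · show Ideal.Quotient.mk N (q' (vt i k)) = Φ (X (vt i k))
      by_cases hi : i = ℓ
      · rw [hi, hq'tℓ]
        have h1 := hΦJ _ (rel1_mem I f k)
        rw [rel1, map_sub, map_sum, hΦC] at h1
        simp only [map_mul] at h1
        rw [← Finset.add_sum_erase Finset.univ _ (Finset.mem_univ ℓ)] at h1
        have h1' : algebraMap P (Q ⧸ N) (f k) -
            ∑ i' ∈ Finset.univ.erase ℓ, Φ (X (vy i')) * Φ (X (vt i' k)) =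
            Φ (X (vy ℓ)) * Φ (X (vt ℓ k)) := by
          linear_combination h1
        rw [map_mul, map_sub, map_sum]
        simp only [map_mul, hq]
        have h3 : Ideal.Quotient.mk N (algebraMap P Q (f k)) = algebraMap P (Q ⧸ N) (f k) := rfl
        rw [h3, h1', ← hq (vy ℓ), ← huℓ, ← mul_assoc, ← map_mul, Units.inv_mul, map_one, one_mul]
      · rw [hq't i k hi, hq]
    · show Ideal.Quotient.mk N (q' vz) = Φ (X vz)
      rw [hq'z, map_zero]
      have h0 := hΦJ _ (rel2_mem I f ℓ)
      rw [rel2, map_mul] at h0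
      exact (huy.mul_left_eq_zero.mp h0).symm

include hπ hker in
/-- the chart `z ≠ 0` is formally smooth over `C' = P/(f)`. -/
theorem formallySmooth_away_z {C' : Type u} [CommRing C'] [Algebra P C']
    (hC : Function.Surjective (algebraMap P C'))
    (hCf : ∀ k, algebraMap P C' (f k) = 0)
    [Algebra C' (Localization.Away (π (X (vz : Var I K))))]
    [IsScalarTower P C' (Localization.Away (π (X (vz : Var I K))))] :
    Algebra.FormallySmooth C' (Localization.Away (π (X (vz : Var I K)))) := by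
  classical
  refine Algebra.FormallySmooth.of_comp_surjective fun Q _ _ N hN u => ?_
  have hNnil : IsNilpotent N := ⟨2, hN⟩
  letI algPQ : Algebra P Q := Algebra.compHom Q (algebraMap P C')
  haveI : IsScalarTower P C' Q := IsScalarTower.of_algebraMap_eq (fun _ => rfl)
  obtain ⟨Φ, hΦ⟩ : ∃ Φ : MvPolynomial (Var I K) P →+* Q ⧸ N,
      ∀ s, Φ s = u (algebraMap B (Localization.Away (π (X (vz : Var I K)))) (π s)) :=
    ⟨(u : Localization.Away (π (X (vz : Var I K))) →+* Q ⧸ N).comp
      ((algebraMap B (Localization.Away (π (X (vz : Var I K))))).comp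
        (π : MvPolynomial (Var I K) P →+* B)), fun s => rfl⟩
  have hΦC : ∀ p, Φ (C p) = Ideal.Quotient.mk N (algebraMap P Q p) := by
    intro p
    rw [hΦ, ← MvPolynomial.algebraMap_eq, π.commutes, ← IsScalarTower.algebraMap_apply,
      IsScalarTower.algebraMap_apply P C' (Localization.Away (π (X (vz : Var I K)))), u.commutes]
    rfl
  have hΦJ : ∀ s ∈ JJ I f, Φ s = 0 := by
    intro s hs
    rw [hΦ, (hker s).mpr hs, map_zero, map_zero]
  have hex : ∀ w, ∃ q : Q, Ideal.Quotient.mk N q = Φ (X w) :=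
    fun w => Ideal.Quotient.mk_surjective _
  choose q hq using hex
  have huz : IsUnit (Φ (X (vz : Var I K))) := by
    rw [hΦ]
    exact (IsLocalization.Away.algebraMap_isUnit (π (X (vz : Var I K)))).map u
  have huq : IsUnit (q vz) := by
    rw [← IsNilpotent.isUnit_quotient_mk_iff hNnil, hq]
    exact huz
  obtain ⟨q', hq'y, hq't, hq'z⟩ : ∃ q' : Var I K → Q,
      (∀ i, q' (vy i) = 0) ∧ (∀ i k, q' (vt i k) = q (vt i k)) ∧ q' vz = q vz :=
    ⟨mkVals (fun _ => 0) (fun i k => q (vt i k)) (q vz), fun _ => rfl, fun _ _ => rfl, rfl⟩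
  have hg₀J : ∀ s ∈ JJ I f, (aeval q' : MvPolynomial (Var I K) P →ₐ[P] Q) s = 0 := by
    intro s hs
    refine Submodule.span_induction ?_ ?_ ?_ ?_ hs
    · rintro _ (⟨k, rfl⟩ | ⟨i, rfl⟩)
      · rw [rel1, map_sub, map_sum, aeval_C]
        simp only [map_mul, aeval_X, hq'y, zero_mul, Finset.sum_const_zero, sub_zero]
        show algebraMap C' Q (algebraMap P C' (f k)) = 0
        rw [hCf, map_zero]
      · rw [rel2, map_mul, aeval_X, aeval_X, hq'y, mul_zero]
    · exact map_zero _
    · intro a b _ _ ha hb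
      rw [map_add, ha, hb, add_zero]
    · intro a b _ hb
      rw [smul_eq_mul, map_mul, hb, mul_zero]
  obtain ⟨g₁, hg₁⟩ : ∃ g₁ : B →ₐ[P] Q, ∀ s, g₁ (π s) = aeval q' s :=
    ⟨AlgHom.liftOfSurjective π hπ (aeval q') (fun s hs => by
      rw [RingHom.mem_ker] at hs ⊢
      exact hg₀J s ((hker s).mp hs)),
      fun s => AlgHom.liftOfSurjective_apply π hπ _ _ s⟩
  have hunits : ∀ y : Submonoid.powers (π (X (vz : Var I K))), IsUnit (g₁ y) := by
    rintro ⟨_, n, rfl⟩
    show IsUnit (g₁ (π (X (vz : Var I K)) ^ n))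
    rw [map_pow, hg₁, aeval_X, hq'z]
    exact huq.pow n
  obtain ⟨g₂, hg₂⟩ : ∃ g₂ : Localization.Away (π (X (vz : Var I K))) →ₐ[P] Q,
      ∀ b : B, g₂ (algebraMap B _ b) = g₁ b :=
    ⟨IsLocalization.liftAlgHom (M := Submonoid.powers (π (X (vz : Var I K)))) (f := g₁) hunits,
      fun b => IsLocalization.lift_eq _ b⟩
  obtain ⟨g₃, hg₃⟩ : ∃ g₃ : Localization.Away (π (X (vz : Var I K))) →ₐ[C'] Q,
      ∀ t, g₃ t = g₂ t :=
    ⟨{ (g₂ : Localization.Away (π (X (vz : Var I K))) →+* Q) with
        commutes' := fun c => by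
          obtain ⟨p, rfl⟩ := hC c
          show g₂ (algebraMap C' _ (algebraMap P C' p)) = algebraMap C' Q (algebraMap P C' p)
          rw [← IsScalarTower.algebraMap_apply P C', g₂.commutes]
          rfl }, fun _ => rfl⟩
  refine ⟨g₃, ?_⟩
  apply AlgHom.coe_ringHom_injective
  apply IsLocalization.ringHom_ext (Submonoid.powers (π (X (vz : Var I K))))
  apply (RingHom.cancel_right (f := (π : MvPolynomial (Var I K) P →+* B)) hπ).mp
  apply MvPolynomial.ringHom_ext
  · intro p
    show Ideal.Quotient.mk N (g₃ (algebraMap B _ (π (C p)))) =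
      u (algebraMap B _ (π (C p)))
    rw [← hΦ, hΦC, hg₃, hg₂, hg₁, aeval_C]
  · intro w
    show Ideal.Quotient.mk N (g₃ (algebraMap B _ (π (X w)))) =
      u (algebraMap B _ (π (X w)))
    rw [← hΦ, hg₃, hg₂, hg₁, aeval_X]
    rcases w with i | ⟨i, k⟩ | ⟨⟩
    · show Ideal.Quotient.mk N (q' (vy i)) = Φ (X (vy i))
      rw [hq'y, map_zero]
      have h0 := hΦJ _ (rel2_mem I f i)
      rw [rel2, map_mul] at h0
      exact (huz.mul_right_eq_zero.mp h0).symm
    · show Ideal.Quotient.mk N (q' (vt i k)) = Φ (X (vt i k))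
      rw [hq't, hq]
    · show Ideal.Quotient.mk N (q' vz) = Φ (X vz)
      rw [hq'z, hq]

end Construction

end Groth.Agent.H8.Res34
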