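import Mathlib
import Groth.Prelude
import Groth.Agent.Lib.Helper8.Res34.A
import Groth.Agent.Lib.Helper8.Res33.D

set_option autoImplicit false
set_option linter.style.haveILetI false

universe u

open MvPolynomial

namespace Groth.Agent.H8.Res34

section Synonym

variable {P : Type u} [CommRing P] (I : Type) {K : Type} [Fintype I] (f : K → P)

/-- the algebra `P[y,t,z]/(f_k - ∑ y_i t_ik, z y_i)` as a type synonym. -/
def BB : Type u := MvPolynomial (Var I K) P ⧸ JJ I f

noncomputable instance : CommRing (BB I f) :=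
  inferInstanceAs (CommRing (MvPolynomial (Var I K) P ⧸ JJ I f))

noncomputable instance (R : Type u) [CommRing R] [Algebra R P] : Algebra R (BB I f) :=
  inferInstanceAs (Algebra R (MvPolynomial (Var I K) P ⧸ JJ I f))

instance (R A : Type u) [CommRing R] [CommRing A] [Algebra R A] [Algebra R P] [Algebra A P]
    [IsScalarTower R A P] : IsScalarTower R A (BB I f) :=
  inferInstanceAs (IsScalarTower R A (MvPolynomial (Var I K) P ⧸ JJ I f))

/-- the projection. -/
noncomputable def πB (R : Type u) [CommRing R] [Algebra R P] :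
    MvPolynomial (Var I K) P →ₐ[R] BB I f :=
  Ideal.Quotient.mkₐ R (JJ I f)

lemma πB_surjective (R : Type u) [CommRing R] [Algebra R P] :
    Function.Surjective (πB I f R) :=
  Ideal.Quotient.mkₐ_surjective R (JJ I f)

lemma πB_eq_zero_iff (R : Type u) [CommRing R] [Algebra R P] (s : MvPolynomial (Var I K) P) :
    πB I f R s = 0 ↔ s ∈ JJ I f :=
  Ideal.Quotient.eq_zero_iff_mem

lemma πB_eq (R R' : Type u) [CommRing R] [Algebra R P] [CommRing R'] [Algebra R' P]
    (s : MvPolynomial (Var I K) P) : πB I f R s = πB I f R' s := rfl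

/-- lifting maps to the quotient. -/
noncomputable def liftB (R : Type u) [CommRing R] [Algebra R P] {L : Type u} [CommRing L]
    [Algebra R L] (g : MvPolynomial (Var I K) P →ₐ[R] L) (hg : ∀ s ∈ JJ I f, g s = 0) :
    BB I f →ₐ[R] L :=
  Ideal.Quotient.liftₐ (JJ I f) g hg

lemma liftB_πB (R : Type u) [CommRing R] [Algebra R P] {L : Type u} [CommRing L]
    [Algebra R L] (g : MvPolynomial (Var I K) P →ₐ[R] L) (hg : ∀ s ∈ JJ I f, g s = 0)
    (s : MvPolynomial (Var I K) P) : liftB I f R g hg (πB I f R s) = g s := rfl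

lemma algebraMap_BB (R : Type u) [CommRing R] [Algebra R P] (x : R) :
    algebraMap R (BB I f) x = πB I f R (C (algebraMap R P x)) := rfl

lemma finitePresentation_BB (R : Type u) [CommRing R] [Algebra R P]
    [Algebra.FinitePresentation R P] [Finite K] : Algebra.FinitePresentation R (BB I f) := by
  haveI : Algebra.FinitePresentation R (MvPolynomial (Var I K) P) := inferInstance
  exact Algebra.FinitePresentation.quotient
    (Submodule.fg_span ((Set.finite_range _).union (Set.finite_range _)))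

end Synonym

section Main

theorem main_abstract {R A Λ P C₀ : Type u} [CommRing R] [CommRing A] [Algebra R A]
    [Algebra.FinitePresentation R A]
    [CommRing Λ] [Algebra R Λ] (φ : A →ₐ[R] Λ) (𝔮 : Ideal Λ) [𝔮.IsPrime]
    [CommRing P] [Algebra A P] [Algebra R P] [IsScalarTower R A P] [Algebra.FormallySmooth A P]
    [Algebra.FinitePresentation A P]
    [CommRing C₀] [Algebra R C₀] [Algebra.FinitePresentation R C₀] [Algebra A C₀]
    [IsScalarTower R A C₀] [Algebra P C₀] [IsScalarTower A P C₀] [IsScalarTower R P C₀]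
    (hPC : Function.Surjective (algebraMap P C₀)) {m : ℕ} (f : Fin m → P)
    (hf : ∀ p, algebraMap P C₀ p = 0 ↔ p ∈ Ideal.span (Set.range f))
    (h₀ : C₀ →ₐ[R] Λ) (hh₀ : ∀ a, h₀ (algebraMap A C₀ a) = φ a)
    (c₀ : C₀) (hc₀ : c₀ ∈ Smoothing.singularIdeal R C₀) (hc₀q : h₀ c₀ ∉ 𝔮)
    {r : ℕ} (a : Fin r → A) (ha : Ideal.span (Set.range a) = Smoothing.singularIdeal R A)
    (N : ℕ) (lam : Λ) (hlam : lam ∉ 𝔮) (hlamN : ∀ i, lam * φ (a i) ^ N = 0) :
    Smoothing.Resolvable R φ 𝔮 := by
  classical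
  haveI : Algebra.FinitePresentation R P := Algebra.FinitePresentation.trans R A P
  haveI hBfp : Algebra.FinitePresentation R (BB (Fin r) f) := finitePresentation_BB (Fin r) f R
  -- the map to `Λ`
  obtain ⟨gP, hgP⟩ : ∃ gP : P →ₐ[R] Λ, ∀ p, gP p = h₀ (algebraMap P C₀ p) :=
    ⟨h₀.comp (IsScalarTower.toAlgHom R P C₀), fun _ => rfl⟩
  obtain ⟨vals, hvy, hvt, hvz⟩ : ∃ vals : Var (Fin r) (Fin m) → Λ,
      (∀ i, vals (vy i) = φ (a i) ^ N) ∧ (∀ i k, vals (vt i k) = 0) ∧ vals vz = lam :=
    ⟨mkVals (fun i => φ (a i) ^ N) (fun _ _ => 0) lam, fun _ => rfl, fun _ _ => rfl, rfl⟩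
  have hfk : ∀ k, algebraMap P C₀ (f k) = 0 := fun k =>
    (hf (f k)).mpr (Ideal.subset_span ⟨k, rfl⟩)
  have hβ₀J : ∀ s ∈ JJ (Fin r) f,
      (MvPolynomial.aevalTower gP vals : MvPolynomial (Var (Fin r) (Fin m)) P →ₐ[R] Λ) s = 0 := by
    intro s hs
    refine Submodule.span_induction ?_ ?_ ?_ ?_ hs
    · rintro _ (⟨k, rfl⟩ | ⟨i, rfl⟩)
      · rw [rel1, map_sub, map_sum, aevalTower_C, hgP, hfk, map_zero]
        simp only [map_mul, aevalTower_X, hvt, mul_zero, Finset.sum_const_zero, sub_zero]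
      · rw [rel2, map_mul, aevalTower_X, aevalTower_X, hvz, hvy, hlamN]
    · exact map_zero _
    · intro x y _ _ hx hy
      rw [map_add, hx, hy, add_zero]
    · intro x y _ hy
      rw [smul_eq_mul, map_mul, hy, mul_zero]
  obtain ⟨β, hβπ⟩ : ∃ β : BB (Fin r) f →ₐ[R] Λ, ∀ s, β (πB (Fin r) f R s) =
      (MvPolynomial.aevalTower gP vals : MvPolynomial (Var (Fin r) (Fin m)) P →ₐ[R] Λ) s :=
    ⟨liftB (Fin r) f R _ hβ₀J, fun s => liftB_πB (Fin r) f R _ hβ₀J s⟩
  have hβA : ∀ x : A, β (algebraMap A (BB (Fin r) f) x) = φ x := by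
    intro x
    rw [algebraMap_BB, πB_eq (Fin r) f A R, hβπ, aevalTower_C, hgP,
      ← IsScalarTower.algebraMap_apply A P C₀, hh₀]
  have hβP : ∀ p : P, β (algebraMap P (BB (Fin r) f) p) = h₀ (algebraMap P C₀ p) := by
    intro p
    rw [algebraMap_BB, πB_eq (Fin r) f P R, hβπ]
    show (MvPolynomial.aevalTower gP vals) (C p) = _
    rw [aevalTower_C, hgP]
  have hβX : ∀ w, β (πB (Fin r) f P (X w)) = vals w := by
    intro w
    rw [πB_eq (Fin r) f P R, hβπ, aevalTower_X]
  -- the charts `y_i ≠ 0`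
  have hα : ∀ i, algebraMap A (BB (Fin r) f) (a i) * πB (Fin r) f P (X (vy i)) ∈
      Smoothing.singularIdeal R (BB (Fin r) f) := by
    intro i
    apply mul_mem_singularIdeal
    haveI : Algebra.FormallySmooth P (Localization.Away (πB (Fin r) f P (X (vy i)))) :=
      formallySmooth_away_y f (πB (Fin r) f P) (πB_surjective (Fin r) f P)
        (πB_eq_zero_iff (Fin r) f P) i
    haveI : Algebra.FormallySmooth A (Localization.Away (πB (Fin r) f P (X (vy i)))) :=
      Algebra.FormallySmooth.comp A P _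
    haveI : Algebra.FormallySmooth R (Localization.Away (a i)) := by
      rw [← Algebra.basicOpen_subset_smoothLocus_iff]
      intro p hp
      by_contra hps
      have hai : a i ∈ Smoothing.singularIdeal R A := by
        rw [← ha]
        exact Ideal.subset_span ⟨i, rfl⟩
      exact hp ((PrimeSpectrum.mem_vanishingIdeal _ _).mp hai p hps)
    haveI := formallySmooth_away_comp (R := R) (A := A)
      (T₁ := Localization.Away (πB (Fin r) f P (X (vy i)))) (a i)
    exact formallySmooth_away_congr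
      (IsScalarTower.algebraMap_apply A (BB (Fin r) f)
        (Localization.Away (πB (Fin r) f P (X (vy i)))) (a i))
  -- the chart `z ≠ 0`
  obtain ⟨c', hc'⟩ := hPC c₀
  have hβz : algebraMap P (BB (Fin r) f) c' * πB (Fin r) f P (X vz) ∈
      Smoothing.singularIdeal R (BB (Fin r) f) := by
    apply mul_mem_singularIdeal
    have hyzero : ∀ i, algebraMap (BB (Fin r) f)
        (Localization.Away (πB (Fin r) f P (X (vz : Var (Fin r) (Fin m)))))
        (πB (Fin r) f P (X (vy i))) = 0 := by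
      intro i
      have h0 : πB (Fin r) f P (X vz) * πB (Fin r) f P (X (vy i)) = 0 := by
        rw [← map_mul]
        exact (πB_eq_zero_iff (Fin r) f P _).mpr (rel2_mem (Fin r) f i)
      have h1 := congrArg (algebraMap (BB (Fin r) f)
        (Localization.Away (πB (Fin r) f P (X (vz : Var (Fin r) (Fin m)))))) h0
      rw [map_mul, map_zero] at h1
      exact ((IsLocalization.Away.algebraMap_isUnit
        (πB (Fin r) f P (X (vz : Var (Fin r) (Fin m))))).mul_right_eq_zero).mp h1
    have hkill : ∀ p, algebraMap P C₀ p = 0 → algebraMap P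
        (Localization.Away (πB (Fin r) f P (X (vz : Var (Fin r) (Fin m))))) p = 0 := by
      intro p hp
      refine Submodule.span_induction ?_ ?_ ?_ ?_ ((hf p).mp hp)
      · rintro _ ⟨k, rfl⟩
        rw [IsScalarTower.algebraMap_apply P (BB (Fin r) f), algebraMap_BB]
        have h0 : πB (Fin r) f P (C (f k)) =
            ∑ i, πB (Fin r) f P (X (vy i)) * πB (Fin r) f P (X (vt i k)) := by
          have := (πB_eq_zero_iff (Fin r) f P _).mpr (rel1_mem (Fin r) f k)
          rw [rel1, map_sub, map_sum, sub_eq_zero] at this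
          simpa only [map_mul] using this
        show algebraMap (BB (Fin r) f) _ (πB (Fin r) f P (C (f k))) = 0
        rw [h0, map_sum]
        refine Finset.sum_eq_zero fun i _ => ?_
        rw [map_mul, hyzero, zero_mul]
      · exact map_zero _
      · intro x y _ _ hx hy
        rw [map_add, hx, hy, add_zero]
      · intro x y _ hy
        rw [smul_eq_mul, map_mul, hy, mul_zero]
    obtain ⟨ψ, hψ⟩ : ∃ ψ : C₀ →+* Localization.Away (πB (Fin r) f P (X (vz : Var (Fin r) (Fin m)))),
        ∀ p, ψ (algebraMap P C₀ p) = algebraMap P _ p :=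
      ⟨(AlgHom.liftOfSurjective (Algebra.ofId P C₀) hPC
        (Algebra.ofId P (Localization.Away (πB (Fin r) f P (X (vz : Var (Fin r) (Fin m))))))
        (fun p hp => by
          rw [RingHom.mem_ker] at hp ⊢
          exact hkill p hp)).toRingHom,
        fun p => AlgHom.liftOfSurjective_apply (Algebra.ofId P C₀) hPC _ _ p⟩
    letI : Algebra C₀ (Localization.Away (πB (Fin r) f P (X (vz : Var (Fin r) (Fin m))))) :=
      ψ.toAlgebra
    haveI : IsScalarTower P C₀
        (Localization.Away (πB (Fin r) f P (X (vz : Var (Fin r) (Fin m))))) :=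
      IsScalarTower.of_algebraMap_eq (fun p => (hψ p).symm)
    haveI : IsScalarTower R C₀
        (Localization.Away (πB (Fin r) f P (X (vz : Var (Fin r) (Fin m))))) :=
      IsScalarTower.of_algebraMap_eq (fun x => by
        rw [IsScalarTower.algebraMap_apply R P C₀,
          ← IsScalarTower.algebraMap_apply P C₀
            (Localization.Away (πB (Fin r) f P (X (vz : Var (Fin r) (Fin m))))),
          ← IsScalarTower.algebraMap_apply R P
            (Localization.Away (πB (Fin r) f P (X (vz : Var (Fin r) (Fin m)))))])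
    haveI : Algebra.FormallySmooth C₀
        (Localization.Away (πB (Fin r) f P (X (vz : Var (Fin r) (Fin m))))) :=
      formallySmooth_away_z f (πB (Fin r) f P) (πB_surjective (Fin r) f P)
        (πB_eq_zero_iff (Fin r) f P) hPC hfk
    haveI : Algebra.FormallySmooth R (Localization.Away c₀) := by
      rw [← Algebra.basicOpen_subset_smoothLocus_iff]
      intro p hp
      by_contra hps
      exact hp ((PrimeSpectrum.mem_vanishingIdeal _ _).mp hc₀ p hps)
    haveI := formallySmooth_away_comp (R := R) (A := C₀)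
      (T₁ := Localization.Away (πB (Fin r) f P (X (vz : Var (Fin r) (Fin m))))) c₀
    refine formallySmooth_away_congr (x := algebraMap C₀ _ c₀) ?_
    rw [← hc', ← IsScalarTower.algebraMap_apply P C₀,
      IsScalarTower.algebraMap_apply P (BB (Fin r) f)]
  -- conclusion
  refine ⟨BB (Fin r) f, inferInstance, inferInstance, hBfp,
    IsScalarTower.toAlgHom R A (BB (Fin r) f), β, ?_, ?_, ?_⟩
  · ext x
    exact hβA x
  · show ((Smoothing.singularIdeal R A).map φ).radical ≤
      ((Smoothing.singularIdeal R (BB (Fin r) f)).map β).radical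
    rw [Ideal.radical_le_radical_iff, Ideal.map_le_iff_le_comap, ← ha, Ideal.span_le]
    rintro _ ⟨i, rfl⟩
    show φ (a i) ∈ Ideal.radical _
    refine ⟨N + 1, ?_⟩
    have h1 : β (algebraMap A (BB (Fin r) f) (a i) * πB (Fin r) f P (X (vy i))) =
        φ (a i) ^ (N + 1) := by
      rw [map_mul, hβA, hβX, hvy, pow_succ']
    rw [← h1]
    exact Ideal.mem_map_of_mem β (hα i)
  · intro hle
    have h1 : β (algebraMap P (BB (Fin r) f) c' * πB (Fin r) f P (X vz)) ∈ 𝔮 :=
      hle (Ideal.le_radical (Ideal.mem_map_of_mem β hβz))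
    rw [map_mul, hβP, hβX, hvz, hc'] at h1
    exact (Ideal.IsPrime.mem_or_mem inferInstance h1).elim hc₀q hlam

open TensorProduct in
theorem main2034 {R A Λ Rₚ Λq : Type u} [CommRing R] [IsNoetherianRing R] [CommRing A]
    [Algebra R A] [Algebra.FinitePresentation R A] [CommRing Λ] [Algebra R Λ] (φ : A →ₐ[R] Λ)
    (𝔮 : Ideal Λ) [𝔮.IsPrime] (hmin : 𝔮 ∈ (Smoothing.singRad R φ).minimalPrimes)
    [CommRing Rₚ] [Algebra R Rₚ] [IsLocalization.AtPrime Rₚ (𝔮.comap (algebraMap R Λ))]
    [CommRing Λq] [Algebra Λ Λq] [IsLocalization.AtPrime Λq 𝔮] [Algebra R Λq]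
    [IsScalarTower R Λ Λq] [Algebra Rₚ Λq] [IsScalarTower R Rₚ Λq]
    (hdim : ringKrullDim Λq = 0)
    (hres : Smoothing.Resolvable Rₚ
      (Algebra.TensorProduct.lift (Algebra.ofId Rₚ Λq) ((IsScalarTower.toAlgHom R Λ Λq).comp φ)
        (fun _ _ => Commute.all _ _) : Rₚ ⊗[R] A →ₐ[Rₚ] Λq) (𝔮.map (algebraMap Λ Λq))) :
    Smoothing.Resolvable R φ 𝔮 := by
  classical
  obtain ⟨C₀, _, _, hC₀fp, g₀, h₀, hcomp, hnot⟩ := Res33.main2033 φ 𝔮 hres
  obtain ⟨c₀, hc₀, hc₀q⟩ : ∃ c₀ ∈ Smoothing.singularIdeal R C₀, h₀ c₀ ∉ 𝔮 := by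
    by_contra hcon
    apply hnot
    rw [Ideal.map_le_iff_le_comap]
    intro c hc
    by_contra hcq
    exact hcon ⟨c, hc, hcq⟩
  haveI : IsNoetherianRing A := Algebra.FiniteType.isNoetherianRing R A
  obtain ⟨r, a, ha⟩ := Submodule.fg_iff_exists_fin_generating_family.mp
    (IsNoetherian.noetherian (Smoothing.singularIdeal R A))
  haveI : IsLocalRing Λq := IsLocalization.AtPrime.isLocalRing Λq 𝔮
  haveI : Ring.KrullDimLE 0 Λq := ringKrullDimZero_iff_ringKrullDim_eq_zero.mpr hdim
  have hmem : ∀ i, φ (a i) ∈ 𝔮 := by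
    intro i
    have h1 : a i ∈ Smoothing.singularIdeal R A := by
      rw [← ha]
      exact Ideal.subset_span ⟨i, rfl⟩
    exact hmin.1.2 (Ideal.le_radical (Ideal.mem_map_of_mem φ h1))
  have hnil : ∀ i, ∃ n : ℕ, ∃ l : Λ, l ∉ 𝔮 ∧ l * φ (a i) ^ n = 0 := by
    intro i
    have h1 : algebraMap Λ Λq (φ (a i)) ∈ IsLocalRing.maximalIdeal Λq :=
      (IsLocalization.AtPrime.to_map_mem_maximal_iff Λq 𝔮 _).mpr (hmem i)
    obtain ⟨n, hn⟩ := Ring.KrullDimLE.isNilpotent_iff_mem_maximalIdeal.mpr h1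
    rw [← map_pow] at hn
    obtain ⟨l, hl⟩ := (IsLocalization.map_eq_zero_iff 𝔮.primeCompl Λq _).mp hn
    exact ⟨n, l, l.2, hl⟩
  choose n l hl hln using hnil
  have hlam : (∏ i, l i) ∉ 𝔮 := by
    have h1 : ((∏ i, (⟨l i, hl i⟩ : 𝔮.primeCompl) : 𝔮.primeCompl) : Λ) = ∏ i, l i := by
      rw [Submonoid.coe_finset_prod]
    rw [← h1]
    exact (∏ i, (⟨l i, hl i⟩ : 𝔮.primeCompl) : 𝔮.primeCompl).2
  have hlamN : ∀ i, (∏ i, l i) * φ (a i) ^ (∑ i, n i) = 0 := by
    intro i
    have hle : n i ≤ ∑ i, n i := Finset.single_le_sum (fun _ _ => Nat.zero_le _) (Finset.mem_univ i)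
    obtain ⟨d, hd⟩ := Nat.exists_eq_add_of_le hle
    rw [← Finset.mul_prod_erase Finset.univ l (Finset.mem_univ i), hd, pow_add]
    have : (l i * ∏ x ∈ Finset.univ.erase i, l x) * (φ (a i) ^ n i * φ (a i) ^ d) =
        (l i * φ (a i) ^ n i) * ((∏ x ∈ Finset.univ.erase i, l x) * φ (a i) ^ d) := by ring
    rw [this, hln, zero_mul]
  letI : Algebra A C₀ := g₀.toRingHom.toAlgebra
  haveI : IsScalarTower R A C₀ := IsScalarTower.of_algebraMap_eq (fun x => (g₀.commutes x).symm)
  haveI : Algebra.FinitePresentation A C₀ :=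
    Algebra.FinitePresentation.of_restrict_scalars_finitePresentation R A C₀
  obtain ⟨nn, p, hp, hpker⟩ := (Algebra.FinitePresentation.out : ∃ (n : ℕ)
    (f : MvPolynomial (Fin n) A →ₐ[A] C₀), Function.Surjective f ∧ (RingHom.ker f.toRingHom).FG)
  obtain ⟨m, f, hf⟩ := Submodule.fg_iff_exists_fin_generating_family.mp hpker
  letI : Algebra (MvPolynomial (Fin nn) A) C₀ := p.toRingHom.toAlgebra
  haveI : IsScalarTower A (MvPolynomial (Fin nn) A) C₀ :=
    IsScalarTower.of_algebraMap_eq (fun x => (p.commutes x).symm)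
  haveI : IsScalarTower R (MvPolynomial (Fin nn) A) C₀ :=
    IsScalarTower.of_algebraMap_eq (fun x => by
      rw [IsScalarTower.algebraMap_apply R A (MvPolynomial (Fin nn) A),
        ← IsScalarTower.algebraMap_apply A (MvPolynomial (Fin nn) A) C₀,
        ← IsScalarTower.algebraMap_apply R A C₀])
  refine main_abstract φ 𝔮 (P := MvPolynomial (Fin nn) A) (C₀ := C₀) hp f ?_ h₀ ?_ c₀ hc₀ hc₀q
    a ha (∑ i, n i) (∏ i, l i) hlam hlamN
  · intro q
    have h1 : Ideal.span (Set.range f) = RingHom.ker p.toRingHom := hf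
    rw [h1, RingHom.mem_ker]
    rfl
  · intro x
    exact AlgHom.congr_fun hcomp x

end Main

end Groth.Agent.H8.Res34
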